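import Cfsg.Agent.Lib.Zsigmondy

/-!
# S4933, `3D4(q)`, `p = 3 | q + 1`: the degrees of the two constituents (helper120, step (4) of helper912)

`R(1) = (q⁶ - 1)(q² - q + 1)(q⁴ - q² + 1) = d₁ (1 + r ^ k)`, `q = r ^ f ≡ 2 (mod 3)`.

* `lt_of_le` : `d₁ ≤ q² (q⁴ - q² + 1)²` gives `f < k`;
* `exp_eq` : then `k = 3 f`;
* `deg` : `d₁ = (q³ - 1)(q² - q + 1)(q⁴ - q² + 1)`, `3 ∣ d₁`, `¬ 9 ∣ d₁`.
-/

set_option autoImplicit false

namespace Cfsg.Agent.H120.HT.Tri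

/-- the degree `R(1)` -/
def R1 (q : ℕ) : ℕ := (q ^ 6 - 1) * (q ^ 2 - q + 1) * (q ^ 4 - q ^ 2 + 1)

theorem phi6_dvd {q : ℕ} (hq : 1 ≤ q) : q ^ 2 - q + 1 ∣ q ^ 6 - 1 := by
  have h1 : q ≤ q ^ 2 := by nlinarith
  have h6 : 1 ≤ q ^ 6 := Nat.one_le_pow _ _ hq
  zify [h1, h6]
  exact ⟨((q : ℤ) + 1) * (q ^ 3 - 1), by ring⟩

theorem phi12_dvd {q : ℕ} (hq : 1 ≤ q) : q ^ 4 - q ^ 2 + 1 ∣ q ^ 12 - 1 := by
  have h1 : q ^ 2 ≤ q ^ 4 := Nat.pow_le_pow_right hq (by norm_num)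
  have h6 : 1 ≤ q ^ 12 := Nat.one_le_pow _ _ hq
  zify [h1, h6]
  exact ⟨((q : ℤ) ^ 2 + 1) * (q ^ 6 - 1), by ring⟩

/-- a prime divisor of `R(1)` -/
theorem prime_dvd {q l : ℕ} (hq : 1 ≤ q) (hl : l.Prime) (h : l ∣ R1 q) : l ∣ q ^ 6 - 1 ∨ l ∣ q ^ 4 - q ^ 2 + 1 := by
  rcases hl.dvd_mul.1 h with h | h
  · rcases hl.dvd_mul.1 h with h | h
    · exact Or.inl h
    · exact Or.inl (h.trans (phi6_dvd hq))
  · exact Or.inr h

/-- an odd prime divisor of `r ^ 2 + 1` -/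
theorem exists_four {r : ℕ} (hr : 2 ≤ r) : ∃ l : ℕ, l.Prime ∧ l ≠ 2 ∧ l ∣ r ^ 2 + 1 := by
  by_contra hne
  push Not at hne
  have h1 : ∀ l : ℕ, l.Prime → l ∣ r ^ 2 + 1 → l = 2 := fun l hl h => by
    by_contra h2
    exact hne l hl h2 h
  have h2 : r ^ 2 + 1 = 2 ^ (r ^ 2 + 1).primeFactorsList.length :=
    Nat.eq_prime_pow_of_unique_prime_dvd (by positivity) (fun {d} hd hdv => h1 d hd hdv)
  obtain ⟨n, hn⟩ : ∃ n, n = (r ^ 2 + 1).primeFactorsList.length := ⟨_, rfl⟩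
  rw [← hn] at h2
  have h4 : 4 < r ^ 2 + 1 := by nlinarith
  have hn2 : 2 ≤ n := by
    by_contra hn2
    have : n ≤ 1 := by omega
    have h3 : 2 ^ n ≤ 2 ^ 1 := Nat.pow_le_pow_right (by norm_num) this
    omega
  have h5 : 4 ∣ r ^ 2 + 1 := by
    rw [h2]
    exact (pow_dvd_pow 2 hn2)
  have h6 : r % 4 = 0 ∨ r % 4 = 1 ∨ r % 4 = 2 ∨ r % 4 = 3 := by omega
  have h7 : (r ^ 2 + 1) % 4 = ((r % 4) ^ 2 + 1) % 4 := by
    rw [Nat.add_mod, Nat.pow_mod, Nat.add_mod ((r % 4) ^ 2)]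
  rcases h6 with h | h | h | h <;> rw [h] at h7 <;> omega

theorem sq_three : ∀ c : ZMod 3, c ^ 2 ≠ -1 := by decide

/-- a prime divisor `l ≠ 2` of `r ^ 2 + 1` does not divide `R(1)` -/
theorem four_not_dvd {r f l : ℕ} (hr : 2 ≤ r) (hf : Odd f) (hl : l.Prime) (hl2 : l ≠ 2) (hd : l ∣ r ^ 2 + 1) :
    ¬ l ∣ R1 (r ^ f) := by
  intro h
  have : Fact l.Prime := ⟨hl⟩
  have hq1 : 1 ≤ r ^ f := Nat.one_le_pow _ _ (by omega)
  have h0 : ((r : ZMod l)) ^ 2 = -1 := by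
    have h1 : ((r ^ 2 + 1 : ℕ) : ZMod l) = 0 := (ZMod.natCast_eq_zero_iff _ _).2 hd
    push_cast at h1
    exact eq_neg_of_add_eq_zero_left h1
  have h1 : (((r ^ f : ℕ) : ZMod l)) ^ 2 = -1 := by
    push_cast
    rw [← pow_mul, mul_comm f 2, pow_mul, h0, hf.neg_one_pow]
  have hodd : ∀ c : ZMod l, c = -1 → c = 1 → False := by
    intro c h2 h3
    have h4 : ((2 : ℕ) : ZMod l) = 0 := by
      push_cast
      have : (1 : ZMod l) = -1 := h3.symm.trans h2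
      linear_combination this
    have h5 := (ZMod.natCast_eq_zero_iff 2 l).1 h4
    exact hl2 ((Nat.prime_dvd_prime_iff_eq hl Nat.prime_two).1 h5)
  rcases prime_dvd hq1 hl h with h2 | h2
  · have h3 : (((r ^ f) ^ 6 - 1 : ℕ) : ZMod l) = 0 := (ZMod.natCast_eq_zero_iff _ _).2 h2
    rw [Nat.cast_sub (Nat.one_le_pow _ _ hq1), Nat.cast_pow] at h3
    have h4 : ((r ^ f : ℕ) : ZMod l) ^ 6 = -1 := by
      have : ((r ^ f : ℕ) : ZMod l) ^ 6 = (((r ^ f : ℕ) : ZMod l) ^ 2) ^ 3 := by ring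
      rw [this, h1]
      ring
    exact hodd _ h4 (by rw [Nat.cast_one] at h3; exact sub_eq_zero.1 h3)
  · have h3 : (((r ^ f) ^ 4 - (r ^ f) ^ 2 + 1 : ℕ) : ZMod l) = 0 := (ZMod.natCast_eq_zero_iff _ _).2 h2
    have h3' : ((r ^ f : ℕ) : ZMod l) ^ 4 - ((r ^ f : ℕ) : ZMod l) ^ 2 + 1 = 0 := by
      rw [← h3, Nat.cast_add, Nat.cast_sub (Nat.pow_le_pow_right hq1 (by norm_num))]
      push_cast
      ring
    have h4 : ((r ^ f : ℕ) : ZMod l) ^ 4 = 1 := by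
      have : ((r ^ f : ℕ) : ZMod l) ^ 4 = (((r ^ f : ℕ) : ZMod l) ^ 2) ^ 2 := by ring
      rw [this, h1]
      ring
    rw [h4, h1] at h3'
    have h5 : ((3 : ℕ) : ZMod l) = 0 := by
      push_cast
      linear_combination h3'
    have h6 : l = 3 := (Nat.prime_dvd_prime_iff_eq hl Nat.prime_three).1 ((ZMod.natCast_eq_zero_iff 3 l).1 h5)
    subst h6
    exact sq_three _ h0

/-- **`k = 3 f`** -/
theorem exp_eq {r f k : ℕ} (hr : 2 ≤ r) (hf : Odd f) (hkf : f < k) (h : 1 + r ^ k ∣ R1 (r ^ f)) : k = 3 * f := by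
  have hf0 : 0 < f := hf.pos
  have hk2 : 2 ≤ k := by omega
  have hq1 : 1 ≤ r ^ f := Nat.one_le_pow _ _ (by omega)
  by_cases h6 : r = 2 ∧ 2 * k = 6
  · obtain ⟨-, hk⟩ := h6
    obtain ⟨c, hc⟩ := hf
    omega
  obtain ⟨l, hl, hm, -, -⟩ := Cfsg.Agent.Lib.Zsigmondy.exists_primitive (a := r) (n := 2 * k) hr
    (by omega) (by omega) h6
  -- `l ∣ r ^ k + 1`
  have hlk : l ∣ 1 + r ^ k := by
    have h3 : l ∣ r ^ (2 * k) - 1 := (hm _).2 dvd_rfl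
    have h4 : r ^ (2 * k) - 1 = (r ^ k + 1) * (r ^ k - 1) := by
      have h5 := Nat.sq_sub_sq (r ^ k) 1
      rw [one_pow, ← pow_mul, mul_comm k 2] at h5
      exact h5
    rw [h4] at h3
    rcases hl.dvd_mul.1 h3 with h5 | h5
    · rwa [add_comm] at h5
    · exact absurd (Nat.le_of_dvd (by omega) ((hm _).1 h5)) (by omega)
  have h1 : 2 * k ∣ 12 * f := by
    rcases prime_dvd hq1 hl (hlk.trans h) with h2 | h2
    · rw [← pow_mul] at h2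
      exact ((hm _).1 h2).trans ⟨2, by ring⟩
    · have h3 := h2.trans (phi12_dvd hq1)
      rw [← pow_mul] at h3
      exact ((hm _).1 h3).trans ⟨1, by ring⟩
  obtain ⟨c, hc⟩ := h1
  have hc' : 6 * f = k * c := by nlinarith
  have hc6 : c < 6 := by
    by_contra hc6
    have : 6 ≤ c := by omega
    nlinarith
  obtain ⟨e, he⟩ := hf
  -- `k` is `2` times an odd number
  have key : ∀ j : ℕ, Odd j → k = 2 * j → False := by
    intro j hj hk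
    obtain ⟨l', hl', hl2, hd⟩ := exists_four hr
    have h2 : r ^ 2 + 1 ∣ 1 + r ^ k := by
      rw [hk, pow_mul, add_comm 1]
      have := Odd.nat_add_dvd_pow_add_pow (r ^ 2) 1 hj
      rw [one_pow] at this
      exact this
    exact four_not_dvd hr ⟨e, he⟩ hl' hl2 hd ((hd.trans h2).trans h)
  have hcc : c = 0 ∨ c = 1 ∨ c = 2 ∨ c = 3 ∨ c = 4 ∨ c = 5 := by omega
  rcases hcc with rfl | rfl | rfl | rfl | rfl | rfl
  · omega
  · exact (key (3 * f) ⟨3 * e + 1, by omega⟩ (by omega)).elim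
  · omega
  · exact (key f ⟨e, he⟩ (by omega)).elim
  · omega
  · exfalso
    obtain ⟨g, hg⟩ : ∃ g, f = 5 * g := by
      have : 5 ∣ f := by omega
      exact this
    exact key (3 * g) (by
      rw [Nat.odd_iff]
      omega) (by omega)

/-- the size -/
theorem lt_of_le {r f k d : ℕ} (hr : 2 ≤ r) (hf : 0 < f) (h : d * (1 + r ^ k) = R1 (r ^ f))
    (hle : d ≤ (r ^ f) ^ 2 * ((r ^ f) ^ 4 - (r ^ f) ^ 2 + 1) ^ 2) : f < k := by
  by_contra hk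
  have hkf : k ≤ f := by omega
  obtain ⟨q, hq⟩ : ∃ q, q = r ^ f := ⟨_, rfl⟩
  have hq2 : 2 ≤ q := by
    rw [hq]
    exact hr.trans (Nat.le_self_pow (by omega) r)
  have h1 : r ^ k ≤ q := by
    rw [hq]
    exact Nat.pow_le_pow_right (by omega) hkf
  rw [← hq] at h hle
  have h2 : R1 q ≤ q ^ 2 * (q ^ 4 - q ^ 2 + 1) ^ 2 * (1 + q) := by
    rw [← h]
    exact Nat.mul_le_mul hle (by omega)
  unfold R1 at h2
  obtain ⟨P, hP⟩ : ∃ P, P = q ^ 4 - q ^ 2 + 1 := ⟨_, rfl⟩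
  rw [← hP] at h2
  have hP0 : 0 < P := by omega
  have h3 : (q ^ 6 - 1) * (q ^ 2 - q + 1) ≤ q ^ 2 * P * (1 + q) := by
    refine Nat.le_of_mul_le_mul_right ?_ hP0
    calc _ ≤ q ^ 2 * P ^ 2 * (1 + q) := h2
      _ = _ := by ring
  have h24 : q ^ 2 ≤ q ^ 4 := Nat.pow_le_pow_right (by omega) (by norm_num)
  have h12 : q ≤ q ^ 2 := by nlinarith
  have h61 : 1 ≤ q ^ 6 := Nat.one_le_pow _ _ (by omega)
  obtain ⟨s, rfl⟩ : ∃ s, q = s + 2 := ⟨q - 2, by omega⟩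
  rw [hP] at h3
  zify [h24, h12, h61] at h3
  have h4 : (0 : ℤ) ≤ s := by positivity
  nlinarith [pow_nonneg h4 2, pow_nonneg h4 3, pow_nonneg h4 4, pow_nonneg h4 5, pow_nonneg h4 6, pow_nonneg h4 7,
    pow_nonneg h4 8]

theorem three {q : ℕ} (hq : q % 3 = 2) : 3 ∣ q ^ 2 - q + 1 ∧ ¬ 9 ∣ q ^ 2 - q + 1 ∧ ¬ 3 ∣ q ^ 3 - 1 ∧
    ¬ 3 ∣ q ^ 4 - q ^ 2 + 1 := by
  obtain ⟨s, rfl⟩ : ∃ s, q = 3 * s + 2 := ⟨q / 3, by omega⟩
  have e1 : (3 * s + 2) ^ 2 - (3 * s + 2) + 1 = 9 * (s ^ 2 + s) + 3 := by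
    have : (3 * s + 2) ^ 2 = 9 * (s ^ 2 + s) + 2 + (3 * s + 2) := by ring
    rw [this, Nat.add_sub_cancel]
  have e2 : (3 * s + 2) ^ 3 - 1 = 3 * (9 * s ^ 3 + 18 * s ^ 2 + 12 * s + 2) + 1 := by
    have : (3 * s + 2) ^ 3 = 3 * (9 * s ^ 3 + 18 * s ^ 2 + 12 * s + 2) + 1 + 1 := by ring
    rw [this, Nat.add_sub_cancel]
  have e3 : (3 * s + 2) ^ 4 - (3 * s + 2) ^ 2 + 1 = 3 * (27 * s ^ 4 + 72 * s ^ 3 + 69 * s ^ 2 + 28 * s + 4) + 1 := by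
    have : (3 * s + 2) ^ 4 = 3 * (27 * s ^ 4 + 72 * s ^ 3 + 69 * s ^ 2 + 28 * s + 4) + (3 * s + 2) ^ 2 := by ring
    rw [this, Nat.add_sub_cancel]
  rw [e1, e2, e3]
  refine ⟨by omega, by omega, by omega, by omega⟩

/-- **the degree**: `d₁ (1 + r ^ k) = R(1)` -/
theorem deg {r f q k d : ℕ} (hr : 2 ≤ r) (hf : Odd f) (hq : q = r ^ f) (hq3 : q % 3 = 2)
    (h : d * (1 + r ^ k) = R1 q) (hle : d ≤ q ^ 2 * (q ^ 4 - q ^ 2 + 1) ^ 2) :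
    k = 3 * f ∧ d = (q ^ 3 - 1) * (q ^ 2 - q + 1) * (q ^ 4 - q ^ 2 + 1) ∧ 3 ∣ d ∧ ¬ 9 ∣ d := by
  subst hq
  have hk := exp_eq hr hf (lt_of_le hr hf.pos h hle) ⟨d, by rw [← h, mul_comm]⟩
  obtain ⟨q, hq⟩ : ∃ q, q = r ^ f := ⟨_, rfl⟩
  have hrk : r ^ k = q ^ 3 := by rw [hk, hq, ← pow_mul, mul_comm]
  rw [hrk, ← hq] at h
  rw [← hq] at hq3 ⊢
  have hq1 : 1 ≤ q := by omega
  have hd : d = (q ^ 3 - 1) * (q ^ 2 - q + 1) * (q ^ 4 - q ^ 2 + 1) := by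
    have h1 : q ^ 6 - 1 = (q ^ 3 - 1) * (1 + q ^ 3) := by
      have := Nat.sq_sub_sq (q ^ 3) 1
      rw [one_pow, ← pow_mul] at this
      rw [this, mul_comm, add_comm]
    unfold R1 at h
    rw [h1] at h
    refine Nat.eq_of_mul_eq_mul_right (show 0 < 1 + q ^ 3 by positivity) ?_
    rw [h]
    ring
  obtain ⟨t1, t2, t3, t4⟩ := three hq3
  refine ⟨hk, hd, ?_, ?_⟩
  · rw [hd]
    exact Dvd.dvd.mul_right (Dvd.dvd.mul_left t1 _) _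
  · rw [hd]
    intro h9
    have p3 := Nat.prime_three
    have c1 : Nat.Coprime 9 (q ^ 4 - q ^ 2 + 1) := by
      have := Nat.Coprime.pow_left 2 ((Nat.Prime.coprime_iff_not_dvd p3).2 t4)
      norm_num at this
      exact this
    have c2 : Nat.Coprime 9 (q ^ 3 - 1) := by
      have := Nat.Coprime.pow_left 2 ((Nat.Prime.coprime_iff_not_dvd p3).2 t3)
      norm_num at this
      exact this
    exact t2 (c2.dvd_of_dvd_mul_left (c1.dvd_of_dvd_mul_right h9))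

end Cfsg.Agent.H120.HT.Tri
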