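import Cfsg.Agent.H120.HT.NodeY

/-!
# S4933, `G₂(q)`, `9 ∣ q + 1`: a `3`-element whose characteristic polynomial moves (helper120)

`exists_y` : `y ∈ G₂(q)` of order `3 ^ m = (q + 1)_3`, in a long root `SL₂(q)`; no field automorphism of order `3`
fixes its characteristic polynomial.
-/

set_option autoImplicit false
set_option linter.unusedSectionVars false

namespace Cfsg.Agent.H120.HT.YG2

open Cfsg.Agent.H120.HT Cfsg.Agent.H120.OZ
open CoxeterSystem Cfsg.Agent.Nodes.RGDChev Cfsg.Agent.KFacts.RgdChevCoord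
open Cfsg.Lie Cfsg.Agent.ChevalleyStructure Cfsg.Agent.ChevalleyStructure.Elts
open Cfsg.Agent.GpExc.Field (glMap emb coe_emb glMap_xG emb_injective coe_glMap)
open Polynomial

/-! ### arithmetic -/

/-- `u = q₁ ^ c`, `3 ∤ c`, `u ≡ ± 1` modulo the `3`-part of `q₁ ^ 3 + 1` is impossible -/
theorem arith {q1 c m : ℕ} (hm : 1 ≤ m) (hd : 3 ^ m ∣ q1 ^ 3 + 1) (hnd : ¬ 3 ^ (m + 1) ∣ q1 ^ 3 + 1)
    (hc : ¬ 3 ∣ c) {k : Type*} [Field k] {z : kˣ} (hz : orderOf z = 3 ^ m)
    (hu : z ^ (q1 ^ c) = z ∨ z ^ (q1 ^ c) = z⁻¹) : False := by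
  -- the residue of `q₁` in `ZMod (3 ^ m)`
  have key : ∀ a b : ℕ, z ^ a = z ^ b ↔ (a : ZMod (3 ^ m)) = b := by
    intro a b
    rw [pow_eq_pow_iff_modEq, hz, ZMod.natCast_eq_natCast_iff]
  have h1 : ((q1 : ZMod (3 ^ m))) ^ 3 = -1 := by
    have h2 : ((q1 ^ 3 + 1 : ℕ) : ZMod (3 ^ m)) = 0 := (ZMod.natCast_eq_zero_iff _ _).2 hd
    push_cast at h2
    exact eq_neg_of_add_eq_zero_left h2
  have h2 : ((q1 : ZMod (3 ^ m))) ^ (2 * c) = 1 := by
    have h3 : ((q1 : ZMod (3 ^ m))) ^ c = 1 ∨ ((q1 : ZMod (3 ^ m))) ^ c = -1 := by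
      rcases hu with hu | hu
      · left
        have h4 := (key (q1 ^ c) 1).1 (by rw [hu, pow_one])
        push_cast at h4
        exact h4
      · right
        have h4 : z ^ (q1 ^ c + 1) = z ^ 0 := by rw [pow_succ, hu, inv_mul_cancel, pow_zero]
        have h5 := (key _ _).1 h4
        push_cast at h5
        exact eq_neg_of_add_eq_zero_left h5
    rw [mul_comm, pow_mul]
    rcases h3 with h3 | h3
    · rw [h3, one_pow]
    · rw [h3]; ring
  have h6 : ((q1 : ZMod (3 ^ m))) ^ 6 = 1 := by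
    have : ((q1 : ZMod (3 ^ m))) ^ 6 = (((q1 : ZMod (3 ^ m))) ^ 3) ^ 2 := by ring
    rw [this, h1]; ring
  have h7 : ((q1 : ZMod (3 ^ m))) ^ 2 = 1 := by
    have hg : Nat.gcd (2 * c) 6 = 2 := by
      have h3 : Nat.Coprime c 3 := ((Nat.Prime.coprime_iff_not_dvd Nat.prime_three).2 hc).symm
      have : (6 : ℕ) = 2 * 3 := by norm_num
      rw [this, Nat.gcd_mul_left, h3, mul_one]
    have h8 : orderOf (q1 : ZMod (3 ^ m)) ∣ Nat.gcd (2 * c) 6 :=
      Nat.dvd_gcd (orderOf_dvd_of_pow_eq_one h2) (orderOf_dvd_of_pow_eq_one h6)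
    rw [hg] at h8
    exact orderOf_dvd_iff_pow_eq_one.1 h8
  have h9 : (q1 : ZMod (3 ^ m)) = -1 := by
    have : ((q1 : ZMod (3 ^ m))) ^ 3 = ((q1 : ZMod (3 ^ m))) ^ 2 * q1 := by ring
    rw [h7, one_mul, h1] at this
    exact this.symm
  have h10 : 3 ^ m ∣ q1 + 1 := by
    rw [← ZMod.natCast_eq_zero_iff]
    push_cast
    rw [h9]
    ring
  apply hnd
  have h11 : 3 ∣ q1 + 1 := (dvd_pow_self 3 (by omega)).trans h10
  obtain ⟨t, ht⟩ := h11
  obtain ⟨w, hw⟩ := h10
  have hq1 : (q1 : ℤ) = 3 * t - 1 := by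
    have : ((q1 + 1 : ℕ) : ℤ) = ((3 * t : ℕ) : ℤ) := by rw [ht]
    push_cast at this
    linarith
  have hw' : (q1 : ℤ) + 1 = 3 ^ m * w := by
    have : ((q1 + 1 : ℕ) : ℤ) = ((3 ^ m * w : ℕ) : ℤ) := by rw [hw]
    push_cast at this
    exact this
  have h12 : ((3 ^ (m + 1) : ℕ) : ℤ) ∣ ((q1 ^ 3 + 1 : ℕ) : ℤ) := by
    refine ⟨w * (3 * t ^ 2 - 3 * t + 1), ?_⟩
    push_cast
    have h13 : (q1 : ℤ) ^ 3 + 1 = ((q1 : ℤ) + 1) * ((q1 : ℤ) ^ 2 - q1 + 1) := by ring
    rw [h13, hw', hq1]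
    ring
  exact_mod_cast h12

/-! ### the table -/

theorem tab : (∀ s : Fin chevG2.nroots, -2 ≤ chevG2.cartan 1 s.val ∧ chevG2.cartan 1 s.val ≤ 2) ∧
    (Finset.univ.filter fun s : Fin chevG2.nroots => chevG2.cartan 1 s.val = 1).card = 4 ∧
    (Finset.univ.filter fun s : Fin chevG2.nroots => chevG2.cartan 1 s.val = 2 ∨ chevG2.cartan 1 s.val = -2).card = 2 := by
  decide +kernel

/-- the eigenvalues -/
noncomputable def dg {k : Type*} [Field k] (z : kˣ) : chevG2.Idx → kˣ :=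
  Sum.elim (fun _ => 1) (fun s : Fin chevG2.nroots => z ^ chevG2.cartan 1 s.val)

theorem coe_dg {k : Type*} [Field k] (z : kˣ) : (fun i => ((dg z i : kˣ) : k)) =
    (Sum.elim (fun _ => (1 : k)) (fun s : Fin chevG2.nroots => (z : k) ^ chevG2.cartan 1 s.val)) := by
  funext i
  rcases i with i | s
  · rfl
  · exact Units.val_zpow_eq_zpow_val z _

/-- `u ≡ ± 1` if the eigenvalues are stable under `a ↦ a ^ u` -/
theorem stable {k : Type*} [Field k] {z : kˣ} {u : ℕ} (hzu : z ^ u ≠ 1)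
    (h : (Finset.univ : Finset chevG2.Idx).val.map (fun i => ((dg z i : kˣ) : k) ^ u) =
      (Finset.univ : Finset chevG2.Idx).val.map (fun i => ((dg z i : kˣ) : k))) :
    z ^ u = z ∨ z ^ u = z⁻¹ := by
  classical
  by_contra hne
  push Not at hne
  obtain ⟨t1, t2, t3⟩ := tab
  have h1 := congrArg (Multiset.count (((z ^ u : kˣ)) : k)) h
  rw [Multiset.count_map, Multiset.count_map] at h1
  -- at least four on the left
  have h2 : 4 ≤ (Multiset.filter (fun a : chevG2.Idx => ((z ^ u : kˣ) : k) = ((dg z a : kˣ) : k) ^ u)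
      (Finset.univ : Finset chevG2.Idx).val).card := by
    rw [← t2]
    have h3 : ((Finset.univ.filter fun s : Fin chevG2.nroots => chevG2.cartan 1 s.val = 1).image
        (Sum.inr : Fin chevG2.nroots → chevG2.Idx)) ⊆ Finset.univ.filter
          (fun a : chevG2.Idx => ((z ^ u : kˣ) : k) = ((dg z a : kˣ) : k) ^ u) := by
      intro a ha
      obtain ⟨s, hs, rfl⟩ := Finset.mem_image.1 ha
      rw [Finset.mem_filter] at hs ⊢
      refine ⟨Finset.mem_univ _, ?_⟩
      show ((z ^ u : kˣ) : k) = ((z ^ chevG2.cartan 1 s.val : kˣ) : k) ^ u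
      rw [hs.2, zpow_one, Units.val_pow_eq_pow_val]
    have h4 := Finset.card_le_card h3
    rw [Finset.card_image_of_injective _ Sum.inr_injective] at h4
    exact h4
  have h5 : (Multiset.filter (fun a : chevG2.Idx => ((z ^ u : kˣ) : k) = ((dg z a : kˣ) : k))
      (Finset.univ : Finset chevG2.Idx).val).card ≤ 2 := by
    rw [← t3]
    have h3 : Finset.univ.filter (fun a : chevG2.Idx => ((z ^ u : kˣ) : k) = ((dg z a : kˣ) : k)) ⊆
        ((Finset.univ.filter fun s : Fin chevG2.nroots => chevG2.cartan 1 s.val = 2 ∨ chevG2.cartan 1 s.val = -2).image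
        (Sum.inr : Fin chevG2.nroots → chevG2.Idx)) := by
      intro a ha
      rw [Finset.mem_filter] at ha
      have ha2 : z ^ u = dg z a := Units.ext ha.2
      rcases a with a | s
      · exact absurd ha2 hzu
      · have ha3 : z ^ u = z ^ chevG2.cartan 1 s.val := ha2
        rw [Finset.mem_image]
        refine ⟨s, ?_, rfl⟩
        rw [Finset.mem_filter]
        refine ⟨Finset.mem_univ _, ?_⟩
        obtain ⟨b1, b2⟩ := t1 s
        have b3 : chevG2.cartan 1 s.val ≠ 0 := fun h0 => hzu (by rw [ha3, h0, zpow_zero])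
        have b4 : chevG2.cartan 1 s.val ≠ 1 := fun h0 => hne.1 (by rw [ha3, h0, zpow_one])
        have b5 : chevG2.cartan 1 s.val ≠ -1 := fun h0 => hne.2 (by rw [ha3, h0, zpow_neg_one])
        omega
    have h4 := Finset.card_le_card h3
    rw [Finset.card_image_of_injective _ Sum.inr_injective] at h4
    exact h4
  omega

/-! ### field automorphisms of order `3` -/

theorem tau_form {F : Type} [Field F] [Fintype F] (τ : F ≃+* F) (h3 : τ ^ 3 = 1) (h1 : τ ≠ 1) :
    ∃ r j q1 c : ℕ, r.Prime ∧ CharP F r ∧ Fintype.card F = q1 ^ 3 ∧ ¬ 3 ∣ c ∧ q1 ^ c = r ^ j ∧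
      ∀ a, τ a = a ^ r ^ j := by
  obtain ⟨r, hr⟩ := CharP.exists F
  have hrp : r.Prime := (CharP.char_is_prime_or_zero F r).resolve_right (by
    rintro rfl
    exact CharP.char_ne_zero_of_finite F 0 rfl)
  have : Fact r.Prime := ⟨hrp⟩
  let _ : Algebra (ZMod r) F := ZMod.algebra F r
  let φ := FiniteField.frobeniusAlgEquivOfAlgebraic (ZMod r) F
  let τ' : F ≃ₐ[ZMod r] F := AlgEquiv.ofRingEquiv (f := τ) (fun x => by
    obtain ⟨n, rfl⟩ := ZMod.natCast_zmod_surjective x
    rw [map_natCast, map_natCast])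
  obtain ⟨⟨j, hj0⟩, hj⟩ := (FiniteField.bijective_frobeniusAlgEquivOfAlgebraic_pow (ZMod r) F).2 τ'
  have hj' : φ ^ j = τ' := hj
  have hpow : ∀ (i : ℕ) (a : F), (τ' ^ i) a = (τ ^ i) a := by
    intro i
    induction i with
    | zero => intro a; rfl
    | succ i ih =>
      intro a
      rw [pow_succ, pow_succ, AlgEquiv.mul_apply, RingAut.mul_apply]
      exact ih _
  have hτ3 : τ' ^ 3 = 1 := by
    apply AlgEquiv.ext
    intro a
    rw [hpow, h3]
    rfl
  have hτ1 : τ' ≠ 1 := by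
    intro h
    apply h1
    apply RingEquiv.ext
    intro a
    have := hpow 1 a
    rw [pow_one, pow_one, h] at this
    exact this.symm
  obtain ⟨n, hn⟩ : ∃ n, n = Module.finrank (ZMod r) F := ⟨_, rfl⟩
  have hord : orderOf φ = n := by rw [hn]; exact FiniteField.orderOf_frobeniusAlgEquivOfAlgebraic (ZMod r) F
  have hcard : Fintype.card F = r ^ n := by
    have := Module.card_eq_pow_finrank (K := ZMod r) (V := F)
    rw [ZMod.card] at this
    rw [this, hn]
  have hn3 : n ∣ 3 * j := by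
    rw [← hord]
    apply orderOf_dvd_of_pow_eq_one
    rw [mul_comm, pow_mul, hj', hτ3]
  have hnj : ¬ n ∣ j := by
    intro h
    apply hτ1
    rw [← hj', ← orderOf_dvd_iff_pow_eq_one, hord]
    exact h
  have h3n : 3 ∣ n := by
    by_contra h
    exact hnj (((Nat.Prime.coprime_iff_not_dvd Nat.prime_three).2 h).symm.dvd_of_dvd_mul_left hn3)
  obtain ⟨n', rfl⟩ := h3n
  have hd : n' ∣ j := Nat.dvd_of_mul_dvd_mul_left (by norm_num) hn3
  obtain ⟨c, rfl⟩ := hd
  refine ⟨r, n' * c, r ^ n', c, hrp, hr, ?_, fun h => hnj ?_, by rw [← pow_mul], fun a => ?_⟩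
  · rw [hcard, ← pow_mul, mul_comm]
  · rw [mul_comm 3 n']
    exact Nat.mul_dvd_mul_left n' h
  · have h2 : (φ ^ (n' * c)) a = a ^ r ^ (n' * c) := by
      show (FiniteField.frobeniusAlgEquivOfAlgebraic (ZMod r) F ^ (n' * c)) a = _
      rw [AlgEquiv.coe_pow, FiniteField.coe_frobeniusAlgEquivOfAlgebraic_iterate, ZMod.card]
    rw [← h2, hj']
    rfl

/-! ### the element -/

theorem isType : IsType chevG2 2 CoxeterMatrix.G₂ := by simp [IsType, typeList]

theorem coe_hc' {k : Type} [Field k] (z : kˣ) :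
    (((hc isType (1 : Fin 2) (z : k) : ↥(chevG2.group k)) : GL chevG2.Idx k) : Matrix chevG2.Idx chevG2.Idx k) =
      Matrix.diagonal (fun i => ((dg z i : kˣ) : k)) := by
  rw [coe_dg]
  exact coe_hc isType (i := (1 : Fin 2)) chkN_G2 z.ne_zero

theorem pow_eq_one {F : Type} {k : Type} [Field F] [Field k] (f : F →+* k) (z : kˣ)
    {y : ↥(chevG2.group F)} {g : ↥(chevG2.group k)}
    (hy : emb isType.inList f y = g * hc isType (1 : Fin 2) (z : k) * g⁻¹) (n : ℕ) :
    y ^ n = 1 ↔ ∀ i, (dg z i) ^ n = 1 := by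
  have hm := coe_hc' z
  have h1 : y ^ n = 1 ↔ (hc isType (1 : Fin 2) (z : k)) ^ n = 1 := by
    rw [← (emb_injective isType.inList f).eq_iff, map_pow, map_one, hy, conj_pow]
    constructor
    · intro h
      have h2 : (hc isType (1 : Fin 2) (z : k)) ^ n = g⁻¹ * (g * (hc isType (1 : Fin 2) (z : k)) ^ n * g⁻¹) * g := by group
      rw [h2, h]
      group
    · intro h
      rw [h]
      group
  rw [h1]
  have h2 : ((((hc isType (1 : Fin 2) (z : k)) ^ n : ↥(chevG2.group k)) : GL chevG2.Idx k) :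
      Matrix chevG2.Idx chevG2.Idx k) = Matrix.diagonal (fun i => ((dg z i : kˣ) : k) ^ n) := by
    rw [Subgroup.coe_pow, Units.val_pow_eq_pow_val, hm, Matrix.diagonal_pow]
    rfl
  constructor
  · intro h i
    rw [h] at h2
    have h3 := congrFun (congrFun h2 i) i
    rw [Matrix.diagonal_apply_eq] at h3
    have h4 : (((1 : ↥(chevG2.group k)) : GL chevG2.Idx k) : Matrix chevG2.Idx chevG2.Idx k) i i = 1 := by
      show (1 : Matrix chevG2.Idx chevG2.Idx k) i i = 1
      rw [Matrix.one_apply_eq]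
    rw [h4] at h3
    apply Units.ext
    rw [Units.val_pow_eq_pow_val, ← h3, Units.val_one]
  · intro h
    apply Subtype.ext
    apply Units.ext
    rw [h2]
    show _ = (1 : Matrix chevG2.Idx chevG2.Idx k)
    rw [← Matrix.diagonal_one]
    congr 1
    funext i
    rw [← Units.val_pow_eq_pow_val, h i, Units.val_one]

/-- **a `3`-element of `G₂(q)`, `9 ∣ q + 1`, whose characteristic polynomial is moved by the field automorphisms of
order `3`** -/
theorem exists_y {F : Type} [Field F] [Fintype F] (h : 9 ∣ Fintype.card F + 1) :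
    ∃ y : ↥(chevG2.group F), (∃ k, y ^ 3 ^ k = 1) ∧ y ^ 3 ≠ 1 ∧ ∀ τ : F ≃+* F, τ ^ 3 = 1 → τ ≠ 1 →
      (((y : GL chevG2.Idx F) : Matrix chevG2.Idx chevG2.Idx F).charpoly).map (τ : F →+* F) ≠
        ((y : GL chevG2.Idx F) : Matrix chevG2.Idx chevG2.Idx F).charpoly := by
  have h3 : 3 ∣ Fintype.card F + 1 := (by norm_num : 3 ∣ 9).trans h
  obtain ⟨m, w, hw, hqw⟩ := Nat.exists_eq_pow_mul_and_not_dvd (n := Fintype.card F + 1) (by omega) 3 (by norm_num)
  have hmd : 3 ^ m ∣ Fintype.card F + 1 := ⟨w, hqw⟩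
  have hmn : ¬ 3 ^ (m + 1) ∣ Fintype.card F + 1 := by
    rintro ⟨t, ht⟩
    apply hw
    refine ⟨t, ?_⟩
    have h4 : 3 ^ m * w = 3 ^ m * (3 * t) := by rw [← hqw, ht]; ring
    exact Nat.eq_of_mul_eq_mul_left (by positivity) h4
  have hm2 : 2 ≤ m := by
    by_contra hm
    have h5 : 3 ^ (m + 1) ∣ 3 ^ 2 := pow_dvd_pow 3 (by omega)
    exact hmn (h5.trans (by norm_num; exact h))
  have hpq : ¬ 3 ∣ Nat.card F := by
    rw [Nat.card_eq_fintype_card]
    omega
  obtain ⟨z0, hz0⟩ := exists_root Nat.prime_three hpq m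
  have h3m : 3 ^ m ≠ 0 := by positivity
  obtain ⟨z, hzz⟩ : ∃ z : (AlgebraicClosure F)ˣ, (z : AlgebraicClosure F) = z0 := ⟨Units.mk0 z0 (hz0.ne_zero h3m), rfl⟩
  have h9m : 9 ≤ 3 ^ m := by
    calc 9 = 3 ^ 2 := by norm_num
      _ ≤ 3 ^ m := Nat.pow_le_pow_right (by norm_num) hm2
  have hord : orderOf z = 3 ^ m := by
    rw [← orderOf_units, hzz, ← hz0.eq_orderOf]
  have hz1 : (z : AlgebraicClosure F) ^ (Fintype.card F + 1) = 1 := by
    rw [hzz]
    exact (hz0.pow_eq_one_iff_dvd _).2 hmd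
  have hz2 : (z : AlgebraicClosure F) ^ 2 ≠ 1 := by
    rw [hzz]
    intro h6
    have := Nat.le_of_dvd (by norm_num) ((hz0.pow_eq_one_iff_dvd _).1 h6)
    omega
  obtain ⟨y, g, hy⟩ := Cfsg.Agent.H120.HT.exists_y isType (algebraMap F (AlgebraicClosure F)) (1 : Fin 2) z
    (Or.inr ⟨hz1, hz2⟩)
  have hpow := pow_eq_one (algebraMap F (AlgebraicClosure F)) z hy
  refine ⟨y, ⟨m, (hpow _).2 fun i => ?_⟩, fun h6 => ?_, fun τ ht3 ht1 hcp => ?_⟩
  · rcases i with i | s
    · show (1 : (AlgebraicClosure F)ˣ) ^ 3 ^ m = 1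
      rw [one_pow]
    · show (z ^ chevG2.cartan 1 s.val) ^ 3 ^ m = 1
      rw [← zpow_natCast, ← zpow_mul, mul_comm, zpow_mul, zpow_natCast, ← hord, pow_orderOf_eq_one, one_zpow]
  · have hc1 : ∃ s : Fin chevG2.nroots, chevG2.cartan 1 s.val = 1 := by decide +kernel
    obtain ⟨s, hs⟩ := hc1
    have h7 : (z ^ chevG2.cartan 1 s.val) ^ 3 = 1 := (hpow 3).1 h6 (Sum.inr s)
    rw [hs, zpow_one] at h7
    have h8 := orderOf_dvd_of_pow_eq_one h7
    rw [hord] at h8
    have := Nat.le_of_dvd (by norm_num) h8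
    omega
  · obtain ⟨r, j, q1, c, hr, hch, hq, hc, hu, hτ⟩ := tau_form τ ht3 ht1
    have : Fact r.Prime := ⟨hr⟩
    have : CharP (AlgebraicClosure F) r :=
      (RingHom.charP_iff (algebraMap F (AlgebraicClosure F)) (algebraMap F (AlgebraicClosure F)).injective r).1 hch
    have hq1 : ¬ 3 ∣ q1 := by
      intro h7
      have h8 : 3 ∣ q1 ^ 3 := dvd_pow h7 (by norm_num)
      rw [← hq] at h8
      omega
    have hzu : z ^ q1 ^ c ≠ 1 := by
      intro h7
      have h8 := orderOf_dvd_of_pow_eq_one h7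
      rw [hord] at h8
      exact hq1 (Nat.prime_three.dvd_of_dvd_pow ((dvd_pow_self 3 (by omega)).trans h8))
    refine arith (m := m) (by omega) (by rw [← hq]; exact hmd) (by rw [← hq]; exact hmn) hc hord (stable hzu ?_)
    -- the roots
    have hm := coe_hc' z
    have h8 : (((y : GL chevG2.Idx F) : Matrix chevG2.Idx chevG2.Idx F).charpoly).map
        (algebraMap F (AlgebraicClosure F)) = ∏ i, (X - C ((dg z i : (AlgebraicClosure F)ˣ) : AlgebraicClosure F)) := by
      rw [← Matrix.charpoly_map, ← Matrix.charpoly_diagonal]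
      have h9 := congrArg (fun x : ↥(chevG2.group (AlgebraicClosure F)) =>
        ((x : GL chevG2.Idx (AlgebraicClosure F)) : Matrix chevG2.Idx chevG2.Idx (AlgebraicClosure F))) hy
      simp only [Subgroup.coe_mul, Units.val_mul] at h9
      rw [hm] at h9
      refine (congrArg Matrix.charpoly h9).trans ?_
      rw [Subgroup.coe_inv, Matrix.coe_units_inv, Matrix.charpoly_units_conj]
    have h10 := congrArg (Polynomial.map (algebraMap F (AlgebraicClosure F))) hcp
    have h11 : (algebraMap F (AlgebraicClosure F)).comp (τ : F →+* F) =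
        (iterateFrobenius (AlgebraicClosure F) r j).comp (algebraMap F (AlgebraicClosure F)) := by
      ext a
      show algebraMap F (AlgebraicClosure F) (τ a) = (algebraMap F (AlgebraicClosure F) a) ^ r ^ j
      rw [hτ, map_pow]
    rw [Polynomial.map_map, h11, ← Polynomial.map_map, h8] at h10
    have h12 : (∏ i, (X - C ((dg z i : (AlgebraicClosure F)ˣ) : AlgebraicClosure F))).map
        (iterateFrobenius (AlgebraicClosure F) r j) =
        ∏ i, (X - C (((dg z i : (AlgebraicClosure F)ˣ) : AlgebraicClosure F) ^ q1 ^ c)) := by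
      rw [Polynomial.map_prod]
      refine Finset.prod_congr rfl fun i _ => ?_
      rw [Polynomial.map_sub, Polynomial.map_X, Polynomial.map_C, hu]
      rfl
    rw [h12] at h10
    have h13 := congrArg Polynomial.roots h10
    rw [Finset.prod, Finset.prod] at h13
    have hroots : ∀ d : chevG2.Idx → AlgebraicClosure F,
        (Multiset.map (fun i => X - C (d i)) (Finset.univ : Finset chevG2.Idx).val).prod.roots =
          (Finset.univ : Finset chevG2.Idx).val.map d := by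
      intro d
      have := Polynomial.roots_multiset_prod_X_sub_C ((Finset.univ : Finset chevG2.Idx).val.map d)
      rw [Multiset.map_map] at this
      exact this
    rw [hroots, hroots] at h13
    exact h13

end Cfsg.Agent.H120.HT.YG2
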